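import Mathlib

/-!
Sections of flat quasi-finite algebras lie in the image of a module `Fʳ`, `F` an ideal of the base,
after localizing on the base.
-/

universe u

open TensorProduct Polynomial

namespace GrothLib.LqfSection

/-- In a flat module `M` whose reduction modulo a finitely generated ideal `J` is free of rank `r`,
the `J`-torsion is the image of an injective map `ann(J)ʳ → M`. -/
theorem exists_injective_pi_annihilator {R M : Type u} [CommRing R] [AddCommGroup M] [Module R M]
    [Module.Flat R M] (J : Ideal R) (hJ : J.FG) {r : ℕ} (c : M →ₗ[R] (Fin r → R ⧸ J))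
    (hc : Function.Surjective c) (hk : LinearMap.ker c = J • ⊤) :
    ∃ φ : (Fin r → ↥(Submodule.annihilator J)) →ₗ[R] M, Function.Injective φ ∧
      ∀ m, (∀ j ∈ J, j • m = 0) → m ∈ LinearMap.range φ := by
  classical
  choose e he using fun i => hc (Pi.single i 1)
  let F := Submodule.annihilator J
  let φ : (Fin r → ↥F) →ₗ[R] M :=
    ∑ i, (LinearMap.toSpanSingleton R M (e i)) ∘ₗ F.subtype ∘ₗ LinearMap.proj i
  have hφ : ∀ a, φ a = ∑ i, (a i : R) • e i := fun a => by simp [φ]
  refine ⟨φ, ?_, ?_⟩
  · rw [← LinearMap.ker_eq_bot, LinearMap.ker_eq_bot']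
    intro a ha
    have hz : (∑ i, e i ⊗ₜ[R] a i : M ⊗[R] ↥F) = 0 := by
      apply Module.Flat.lTensor_preserves_injective_linearMap (M := M) F.subtype F.injective_subtype
      apply (TensorProduct.rid R M).injective
      rw [hφ] at ha
      simpa using ha
    funext i
    let L : ↥F → ((R ⧸ J) →ₗ[R] R) := fun a => Submodule.liftQ J (LinearMap.mulLeft R (a : R))
      (fun x hx => Submodule.mem_annihilator.mp a.2 x hx)
    have hL : ∀ a x, L a (Ideal.Quotient.mk J x) = (a : R) * x := fun _ _ => rfl
    let β : M →ₗ[R] ↥F →ₗ[R] R := LinearMap.mk₂ R (fun m a => L a (c m i))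
      (fun m n a => by simp) (fun t m a => by simp)
      (fun m a b => by
        obtain ⟨x, hx⟩ := Ideal.Quotient.mk_surjective (c m i)
        simp only [← hx, hL, Submodule.coe_add, add_mul])
      (fun t m a => by
        obtain ⟨x, hx⟩ := Ideal.Quotient.mk_surjective (c m i)
        simp only [← hx, hL, Submodule.coe_smul, smul_eq_mul, mul_assoc])
    have := congr(TensorProduct.lift β $hz)
    simp only [map_sum, TensorProduct.lift.tmul, map_zero] at this
    rw [Finset.sum_eq_single i] at this
    · apply Subtype.ext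
      change L (a i) (c (e i) i) = 0 at this
      rw [he, Pi.single_eq_same, ← map_one (Ideal.Quotient.mk J), hL, mul_one] at this
      exact this
    · intro b _ hb
      change L (a b) (c (e b) i) = 0
      rw [he, Pi.single_eq_of_ne hb.symm, map_zero]
    · simp
  · intro m hm
    have key : m ∈ F • (⊤ : Submodule R M) := by
      obtain ⟨k, j, hj⟩ := Submodule.fg_iff_exists_fin_generating_family.mp hJ
      let α : R →ₗ[R] (Fin k → R) := LinearMap.pi fun i => LinearMap.mulRight R (j i)
      have hex : Function.Exact F.subtype α := by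
        intro x
        simp only [Submodule.coe_subtype, Subtype.range_coe_subtype, SetLike.mem_coe,
          Set.mem_setOf_eq]
        refine ⟨fun h => Submodule.mem_annihilator.mpr fun n hn => ?_, fun h => funext fun i => ?_⟩
        · rw [← hj] at hn
          induction hn using Submodule.span_induction with
          | mem _ h' => obtain ⟨i, rfl⟩ := h'; exact congrFun h i
          | zero => exact smul_zero _
          | add _ _ _ _ h1 h2 => rw [smul_add, h1, h2, add_zero]
          | smul t _ _ h1 => rw [smul_comm, h1, smul_zero]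
        · exact Submodule.mem_annihilator.mp h _ (hj ▸ Submodule.subset_span ⟨i, rfl⟩)
      have h1 : (α.lTensor M) (m ⊗ₜ 1) = 0 := by
        apply (TensorProduct.piScalarRight R R M (Fin k)).injective
        funext i
        simpa [α] using hm (j i) (hj ▸ Submodule.subset_span ⟨i, rfl⟩)
      obtain ⟨z, hz⟩ := ((Module.Flat.lTensor_exact M hex) _).mp h1
      have : TensorProduct.rid R M ((F.subtype.lTensor M) z) ∈ F • (⊤ : Submodule R M) := by
        clear hz
        induction z with
        | zero => simp
        | tmul x a => simpa using Submodule.smul_mem_smul a.2 Submodule.mem_top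
        | add x y hx hy => rw [map_add, map_add]; exact add_mem hx hy
      rw [hz, TensorProduct.rid_tmul, one_smul] at this
      exact this
    refine Submodule.smul_induction_on key (fun a ha n _ => ?_) fun x y hx hy => add_mem hx hy
    choose w hw using fun i => Ideal.Quotient.mk_surjective (c n i)
    have hker : n - ∑ i, w i • e i ∈ J • (⊤ : Submodule R M) := by
      rw [← hk, LinearMap.mem_ker, map_sub, map_sum, sub_eq_zero]
      funext l
      simp only [map_smul, he, Finset.sum_apply, Pi.smul_apply]
      rw [Finset.sum_eq_single l]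
      · rw [Pi.single_eq_same, ← hw, Algebra.smul_def, mul_one]; rfl
      · intro b _ hb; simp [Pi.single_eq_of_ne hb.symm]
      · simp
    have h0 : a • (n - ∑ i, w i • e i) = 0 := by
      refine Submodule.smul_induction_on hker (fun x hx y _ => ?_) fun x y hx hy => ?_
      · rw [smul_smul, ← smul_eq_mul a x, Submodule.mem_annihilator.mp ha x hx, zero_smul]
      · rw [smul_add, hx, hy, add_zero]
    refine ⟨fun i => ⟨w i * a, F.mul_mem_left _ ha⟩, ?_⟩
    rw [hφ]
    rw [smul_sub, sub_eq_zero] at h0
    rw [h0, Finset.smul_sum]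
    exact Finset.sum_congr rfl fun i _ => by simp [smul_smul, mul_comm]

/-- At a minimal prime over `I`, an element of a quasi-finite algebra satisfies modulo a finitely
generated subideal of `I` an equation with leading coefficient outside the prime. -/
theorem exists_polynomial_mem_map {R B : Type u} [CommRing R] [CommRing B] [Algebra R B]
    [Algebra.QuasiFinite R B] (I s : Ideal R) (hs : s ∈ I.minimalPrimes) (y : B) :
    ∃ P : R[X], P.leadingCoeff ∉ s ∧ ∃ J : Ideal R, J.FG ∧ J ≤ I ∧
      aeval y P ∈ J.map (algebraMap R B) := by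
  classical
  have : s.IsPrime := hs.isPrime
  let k := s.ResidueField
  obtain ⟨q, hq, hq0⟩ := Algebra.IsIntegral.isIntegral (R := k) ((1 : k) ⊗ₜ[R] y : s.Fiber B)
  obtain ⟨⟨t, ht⟩, hb⟩ := IsLocalization.exist_integer_multiples (nonZeroDivisors (R ⧸ s))
    (Finset.range q.natDegree) (q.coeff ·) (S := k)
  obtain ⟨t, rfl⟩ := Ideal.Quotient.mk_surjective t
  choose a' ha' using hb
  choose a ha using fun i hi => Ideal.Quotient.mk_surjective (a' i hi)
  have hts : t ∉ s := fun h => nonZeroDivisors.ne_zero ht (Ideal.Quotient.eq_zero_iff_mem.mpr h)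
  let Q : R[X] := C t * X ^ q.natDegree +
    ∑ i ∈ (Finset.range q.natDegree).attach, C (a i.1 i.2) * X ^ i.1
  have hmap : ∀ x : R, algebraMap R k x = algebraMap (R ⧸ s) k (Ideal.Quotient.mk s x) :=
    fun x => IsScalarTower.algebraMap_apply R (R ⧸ s) k x
  have hQk : Q.map (algebraMap R k) = C (algebraMap R k t) * q := by
    conv_rhs => rw [hq.as_sum, mul_add, Finset.mul_sum]
    simp only [Q, Polynomial.map_add, Polynomial.map_mul, Polynomial.map_C, Polynomial.map_pow,
      Polynomial.map_X, Polynomial.map_sum]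
    congr 1
    rw [← Finset.sum_attach (Finset.range q.natDegree)
      (fun i => C (algebraMap R k t) * (C (q.coeff i) * X ^ i))]
    refine Finset.sum_congr rfl fun i _ => ?_
    rw [← mul_assoc, ← C_mul, hmap, hmap, ha, ha', Algebra.smul_def]
  have hd : Q.natDegree ≤ q.natDegree := by
    refine (natDegree_add_le _ _).trans (max_le (natDegree_C_mul_X_pow_le _ _) ?_)
    refine natDegree_sum_le_of_forall_le _ _ fun i _ => (natDegree_C_mul_X_pow_le _ _).trans ?_
    exact (Finset.mem_range.mp i.2).le
  have hcoef : Q.coeff q.natDegree = t := by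
    simp only [Q, coeff_add, finset_sum_coeff, coeff_C_mul_X_pow, if_true]
    rw [Finset.sum_eq_zero, add_zero]
    intro i _
    rw [if_neg]
    exact (Finset.mem_range.mp i.2).ne'
  have hlead : Q.leadingCoeff = t := by
    have : Q.natDegree = q.natDegree := le_antisymm hd
      (le_natDegree_of_ne_zero (by rw [hcoef]; rintro rfl; exact hts s.zero_mem))
    rw [leadingCoeff, this, hcoef]
  have h0 : (1 : k) ⊗ₜ[R] aeval y Q = (0 : s.Fiber B) := by
    have h1 : aeval ((1 : k) ⊗ₜ[R] y : s.Fiber B) (Q.map (algebraMap R k)) = 0 := by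
      rw [hQk, map_mul, aeval_def (p := q), hq0, mul_zero]
    rw [aeval_map_algebraMap] at h1
    exact ((aeval_algHom_apply (Algebra.TensorProduct.includeRight (R := R) (A := k) (B := B)) y Q).symm.trans h1)
  have hP : ∀ P : Ideal B, P.IsPrime → P.comap (algebraMap R B) = s → aeval y Q ∈ P := by
    intro P hPp hPs
    have : P.LiesOver s := ⟨hPs.symm⟩
    obtain ⟨P', hP'⟩ := (PrimeSpectrum.primesOverOrderIsoFiber R B s).symm.surjective
      ⟨P, hPp, this⟩
    have : _ = P := congr($(hP').1)
    rw [← this]
    change Algebra.TensorProduct.includeRight (R := R) (A := k) (aeval y Q) ∈ P'.asIdeal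
    rw [Algebra.TensorProduct.includeRight_apply, h0]
    exact zero_mem _
  obtain ⟨u, hu, n, hn⟩ : ∃ u ∉ s, ∃ n : ℕ,
      algebraMap R B u * aeval y Q ^ n ∈ I.map (algebraMap R B) := by
    by_contra h
    push Not at h
    let M : Submonoid B := Submonoid.map (algebraMap R B) s.primeCompl ⊔ Submonoid.powers (aeval y Q)
    have hd' : Disjoint (I.map (algebraMap R B) : Set B) M := by
      rw [Set.disjoint_right]
      intro x hx hxI
      obtain ⟨_, ⟨u, hu, rfl⟩, _, ⟨n, rfl⟩, rfl⟩ := Submonoid.mem_sup.mp hx
      exact h u hu n hxI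
    obtain ⟨P, hPp, hIP, hPM⟩ := Ideal.exists_le_prime_disjoint _ M hd'
    have hle : P.comap (algebraMap R B) ≤ s := by
      intro x hx
      by_contra hxs
      exact Set.disjoint_left.mp hPM hx (Submonoid.mem_sup_left ⟨x, hxs, rfl⟩)
    have hge : I ≤ P.comap (algebraMap R B) := Ideal.map_le_iff_le_comap.mp hIP
    have := le_antisymm hle (hs.2 ⟨inferInstance, hge⟩ hle)
    exact Set.disjoint_left.mp hPM (hP P hPp this) (Submonoid.mem_sup_right ⟨1, pow_one _⟩)
  obtain ⟨T, hTI, hxT⟩ := Submodule.mem_span_finite_of_mem_span hn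
  obtain ⟨T', hT', rfl⟩ := Finset.subset_set_image_iff.mp hTI
  refine ⟨C u * Q ^ n, ?_, Ideal.span T', ⟨T', rfl⟩, Ideal.span_le.mpr hT', ?_⟩
  · have : u * t ^ n ∉ s := fun h => (‹s.IsPrime›.mem_or_mem h).elim hu
      fun h' => hts (‹s.IsPrime›.mem_of_pow_mem n h')
    have h1 : t ^ n ≠ 0 := fun h' => this (by rw [h', mul_zero]; exact s.zero_mem)
    rw [leadingCoeff_mul', leadingCoeff_C, leadingCoeff_pow', hlead]
    · exact this
    · rwa [hlead]
    · rw [leadingCoeff_C, leadingCoeff_pow' (by rwa [hlead]), hlead]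
      exact fun h' => this (by rw [h']; exact s.zero_mem)
  · rw [map_mul, aeval_C, map_pow, Ideal.map_span, ← Finset.coe_image]
    exact hxT

/-- A quasi-finite algebra of finite type is finite near a minimal prime over `I`, modulo a
finitely generated subideal of `I`. -/
theorem exists_finite_baseChange {R B : Type u} [CommRing R] [CommRing B] [Algebra R B]
    [Algebra.QuasiFinite R B] [Algebra.FiniteType R B] (I s : Ideal R) (hs : s ∈ I.minimalPrimes) :
    ∃ h ∉ s, ∃ J : Ideal R, J.FG ∧ J ≤ I ∧ ∀ (W : Type u) [CommRing W] [Algebra R W],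
      IsUnit (algebraMap R W h) → J.map (algebraMap R W) = ⊥ → Module.Finite W (W ⊗[R] B) := by
  classical
  have : s.IsPrime := hs.isPrime
  obtain ⟨G, hG⟩ := Algebra.FiniteType.out (R := R) (A := B)
  choose P hP J hJfg hJI hmem using fun y : B => exists_polynomial_mem_map I s hs y
  refine ⟨∏ y ∈ G, (P y).leadingCoeff, fun h => ?_, G.sup J, ?_, Finset.sup_le fun y _ => hJI y, ?_⟩
  · obtain ⟨y, _, hy⟩ := Ideal.IsPrime.prod_mem_iff.mp h
    exact hP y hy
  · exact Submodule.fg_finset_sup _ _ fun y _ => hJfg y
  intro W _ _ hu hJ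
  cases subsingleton_or_nontrivial W
  · have : Subsingleton (W ⊗[R] B) := Module.subsingleton W _
    infer_instance
  have hint : ∀ y ∈ G, IsIntegral W ((1 : W) ⊗ₜ[R] y) := by
    intro y hy
    have hl : IsUnit (algebraMap R W (P y).leadingCoeff) :=
      isUnit_of_dvd_unit (map_dvd _ (Finset.dvd_prod_of_mem (fun y => (P y).leadingCoeff) hy)) hu
    obtain ⟨v, hv⟩ := hl.exists_left_inv
    have hne : algebraMap R W (P y).leadingCoeff ≠ 0 := hl.ne_zero
    refine ⟨C v * (P y).map (algebraMap R W), monic_C_mul_of_mul_leadingCoeff_eq_one ?_, ?_⟩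
    · rwa [leadingCoeff_map_of_leadingCoeff_ne_zero _ hne]
    rw [← aeval_def, map_mul, aeval_map_algebraMap]
    have h1 := aeval_algHom_apply (Algebra.TensorProduct.includeRight (R := R) (A := W) (B := B)) y (P y)
    simp only [Algebra.TensorProduct.includeRight_apply] at h1
    rw [h1]
    have h2 : ((J y).map (algebraMap R B)).map
        (Algebra.TensorProduct.includeRight (R := R) (A := W) (B := B)).toRingHom = ⊥ := by
      rw [Ideal.map_map, AlgHom.toRingHom_eq_coe, AlgHom.comp_algebraMap,
        IsScalarTower.algebraMap_eq R W (W ⊗[R] B), ← Ideal.map_map,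
        le_bot_iff.mp ((Ideal.map_mono (Finset.le_sup hy)).trans hJ.le), Ideal.map_bot]
    have h3 := Ideal.mem_map_of_mem
      (Algebra.TensorProduct.includeRight (R := R) (A := W) (B := B)).toRingHom (hmem y)
    rw [h2, Ideal.mem_bot] at h3
    exact mul_eq_zero_of_right _ h3
  have htop : Algebra.adjoin W ((fun y => (1 : W) ⊗ₜ[R] y) '' (G : Set B)) = ⊤ := by
    rw [eq_top_iff]
    rintro x -
    induction x with
    | zero => exact zero_mem _
    | add x y hx hy => exact add_mem hx hy
    | tmul w b =>
      have h2 : (1 : W) ⊗ₜ[R] b ∈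
          (Algebra.adjoin W ((fun y => (1 : W) ⊗ₜ[R] y) '' (G : Set B))).restrictScalars R := by
        have hb : b ∈ Algebra.adjoin R (G : Set B) := hG ▸ Algebra.mem_top
        have h4 : (Algebra.adjoin R (G : Set B)).map
            (Algebra.TensorProduct.includeRight (R := R) (A := W) (B := B)) ≤
            (Algebra.adjoin W ((fun y => (1 : W) ⊗ₜ[R] y) '' (G : Set B))).restrictScalars R := by
          rw [AlgHom.map_adjoin]
          exact Algebra.adjoin_le (fun z hz => Algebra.subset_adjoin hz)
        exact h4 (Subalgebra.mem_map.mpr ⟨b, hb, rfl⟩)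
      have : w ⊗ₜ[R] b = w • ((1 : W) ⊗ₜ[R] b) := by rw [smul_tmul', smul_eq_mul, mul_one]
      rw [this]
      exact Subalgebra.smul_mem _ ((Subalgebra.mem_restrictScalars R).mp h2) w
  constructor
  have := fg_adjoin_of_finite (R := W) (s := (fun y => (1 : W) ⊗ₜ[R] y) '' (G : Set B))
    (G.finite_toSet.image _) (by rintro _ ⟨y, hy, rfl⟩; exact hint y hy)
  rwa [htop, Algebra.top_toSubmodule] at this

end GrothLib.LqfSection
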