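import Groth.Agent.Lib.LqfSection.Basic

/-!
The algebraic statement about sections of flat quasi-finite algebras.
-/

universe u

open TensorProduct

namespace GrothLib.LqfSection

/-- `F` ideal, `φ : Fʳ → B` injective linear with `g` in its range. -/
def InPiImage (R B : Type u) [CommRing R] [CommRing B] [Algebra R B] (g : B) : Prop :=
  ∃ (F : Ideal R) (r : ℕ), 0 < r ∧ ∃ φ : (Fin r → ↥F) →ₗ[R] B, Function.Injective φ ∧
    g ∈ LinearMap.range φ

theorem inPiImage_of_finite_free {R R' B' B : Type u} [CommRing R] [CommRing R'] [CommRing B]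
    [CommRing B'] [Algebra R R'] [Algebra R B] [Algebra R' B'] [Algebra B B'] [Algebra R B']
    [IsScalarTower R R' B'] [IsScalarTower R B B'] [Algebra.IsPushout R R' B B'] [Module.Flat R B]
    (J : Ideal R') (hJ : J.FG) [Module.Finite (R' ⧸ J) ((R' ⧸ J) ⊗[R] B)]
    [Module.Free (R' ⧸ J) ((R' ⧸ J) ⊗[R] B)] (g : B') (hg0 : g ≠ 0)
    (hg : ∀ j ∈ J, algebraMap R' B' j * g = 0) : InPiImage R' B' g := by
  classical
  let W := R' ⧸ J
  let ι := Module.Free.ChooseBasisIndex W (W ⊗[R] B)
  let b : Module.Basis (Fin (Fintype.card ι)) W (W ⊗[R] B) :=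
    (Module.Free.chooseBasis W (W ⊗[R] B)).reindex (Fintype.equivFin ι)
  let e : R' ⊗[R] B ≃ₗ[R'] B' := (Algebra.IsPushout.equiv R R' B B').toLinearEquiv
  have : Module.Flat R' B' := Module.Flat.of_linearEquiv e.symm
  let π : R' ⊗[R] B →ₗ[R'] W ⊗[R] B :=
    TensorProduct.AlgebraTensorModule.map (Algebra.linearMap R' W) LinearMap.id
  let c : B' →ₗ[R'] (Fin (Fintype.card ι) → W) :=
    (b.equivFun.restrictScalars R').toLinearMap ∘ₗ π ∘ₗ e.symm.toLinearMap
  have hπ : Function.Surjective π := by
    intro x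
    induction x with
    | zero => exact ⟨0, map_zero _⟩
    | tmul w b =>
      obtain ⟨r, rfl⟩ := Ideal.Quotient.mk_surjective w
      exact ⟨r ⊗ₜ b, rfl⟩
    | add x y hx hy =>
      obtain ⟨x, rfl⟩ := hx
      obtain ⟨y, rfl⟩ := hy
      exact ⟨x + y, map_add _ _ _⟩
  have hc : Function.Surjective c :=
    (b.equivFun.surjective.comp hπ).comp e.symm.surjective
  have hk : LinearMap.ker c = J • (⊤ : Submodule R' B') := by
    apply le_antisymm
    · intro m hm
      have hm' : π (e.symm m) = 0 := b.equivFun.map_eq_zero_iff.mp hm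
      have hex : Function.Exact (J.subtype.restrictScalars R)
          ((Algebra.linearMap R' W).restrictScalars R) := fun x => by
        simp [W, Ideal.Quotient.eq_zero_iff_mem]
      obtain ⟨z, hz⟩ := ((rTensor_exact B hex (Ideal.Quotient.mk_surjective)) _).mp hm'
      have : e.symm m ∈ J • (⊤ : Submodule R' (R' ⊗[R] B)) := by
        rw [← hz]
        clear hz
        induction z with
        | zero => simp
        | tmul j b =>
          have h1 : (j : R') ⊗ₜ[R] b = (j : R') • ((1 : R') ⊗ₜ[R] b) := by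
            rw [smul_tmul', smul_eq_mul, mul_one]
          rw [LinearMap.rTensor_tmul]
          exact h1 ▸ Submodule.smul_mem_smul j.2 Submodule.mem_top
        | add x y hx hy => rw [map_add]; exact add_mem hx hy
      have h2 := Submodule.mem_map_of_mem (f := e.toLinearMap) this
      rw [Submodule.map_smul'', Submodule.map_top, LinearEquiv.range, LinearEquiv.coe_coe,
        LinearEquiv.apply_symm_apply] at h2
      exact h2
    · refine Submodule.smul_le.mpr fun j hj n _ => ?_
      rw [LinearMap.mem_ker, map_smul]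
      funext i
      rw [Pi.smul_apply, Algebra.smul_def]
      exact mul_eq_zero_of_left (Ideal.Quotient.eq_zero_iff_mem.mpr hj) _
  obtain ⟨φ, hφi, hφr⟩ := exists_injective_pi_annihilator J hJ c hc hk
  have hmem : g ∈ LinearMap.range φ := hφr g fun j hj => by
    rw [Algebra.smul_def]; exact hg j hj
  refine ⟨_, _, Nat.pos_of_ne_zero fun h0 => hg0 ?_, φ, hφi, hmem⟩
  obtain ⟨a, rfl⟩ := hmem
  have : IsEmpty (Fin (Fintype.card ι)) := by rw [h0]; infer_instance
  rw [Subsingleton.elim a 0, map_zero]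

theorem exists_free_baseChange_away {A P : Type u} [CommRing A] [AddCommGroup P] [Module A P]
    [Module.FinitePresentation A P] [Module.Flat A P] (p : Ideal A) [p.IsPrime] :
    ∃ a ∉ p, ∀ (W : Type u) [CommRing W] [Algebra A W], IsUnit (algebraMap A W a) →
      Module.Free W (W ⊗[A] P) := by
  have : Module.Free (Localization.AtPrime p) (LocalizedModule p.primeCompl P) :=
    Module.free_of_flat_of_isLocalRing
  obtain ⟨a, ha, hfree, -⟩ := Module.FinitePresentation.exists_free_localizedModule_powers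
    p.primeCompl (LocalizedModule.mkLinearMap p.primeCompl P) (Localization.AtPrime p)
  refine ⟨a, ha, fun W _ _ hu => ?_⟩
  let L := Localization (Submonoid.powers a)
  let fL : L →+* W := IsLocalization.Away.lift a hu
  letI : Algebra L W := fL.toAlgebra
  have : IsScalarTower A L W := .of_algebraMap_eq' (IsLocalization.Away.lift_comp a hu).symm
  have eL : L ⊗[A] P ≃ₗ[L] LocalizedModule (Submonoid.powers a) P :=
    (LocalizedModule.equivTensorProduct _ _).symm
  have : Module.Free L (LocalizedModule (Submonoid.powers a) P) := hfree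
  have : Module.Free L (L ⊗[A] P) := Module.Free.of_equiv eL.symm
  exact Module.Free.of_equiv (TensorProduct.AlgebraTensorModule.cancelBaseChange A L W W P)

theorem exists_away_free {R B : Type u} [CommRing R] [CommRing B] [Algebra R B] [Module.Flat R B]
    [Algebra.QuasiFinite R B] [Algebra.FinitePresentation R B] (I s : Ideal R)
    (hs : s ∈ I.minimalPrimes) :
    ∃ h ∉ s, ∃ J : Ideal R, J.FG ∧ J ≤ I ∧ ∀ (W : Type u) [CommRing W] [Algebra R W],
      IsUnit (algebraMap R W h) → J.map (algebraMap R W) = ⊥ →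
        Module.Finite W (W ⊗[R] B) ∧ Module.Free W (W ⊗[R] B) := by
  obtain ⟨h₁, hh₁, J, hJfg, hJI, hfin⟩ := exists_finite_baseChange (B := B) I s hs
  have : s.IsPrime := hs.isPrime
  let R₁ := Localization.Away h₁
  let W₀ := R₁ ⧸ J.map (algebraMap R R₁)
  have hu₁ : IsUnit (algebraMap R W₀ h₁) := by
    rw [IsScalarTower.algebraMap_apply R R₁ W₀]
    exact (IsLocalization.Away.algebraMap_isUnit h₁).map _
  have hJ₀ : J.map (algebraMap R W₀) = ⊥ := by
    rw [IsScalarTower.algebraMap_eq R R₁ W₀, ← Ideal.map_map]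
    exact Ideal.map_quotient_self _
  have := hfin W₀ hu₁ hJ₀
  let P := W₀ ⊗[R] B
  have : Module.FinitePresentation W₀ P := Module.FinitePresentation.of_finite_of_finitePresentation W₀ P
  have hdisj : Disjoint (Submonoid.powers h₁ : Set R) s := by
    rw [Set.disjoint_left]
    rintro _ ⟨n, rfl⟩ h
    exact hh₁ (‹s.IsPrime›.mem_of_pow_mem n h)
  let s₁ := s.map (algebraMap R R₁)
  have hs₁ : s₁.IsPrime := IsLocalization.isPrime_of_isPrime_disjoint (Submonoid.powers h₁) R₁ s ‹_› hdisj
  let s₀ : Ideal W₀ := s₁.map (Ideal.Quotient.mk _)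
  have : s₀.IsPrime := Ideal.map_isPrime_of_surjective Ideal.Quotient.mk_surjective (by
    rw [Ideal.mk_ker]; exact Ideal.map_mono (hJI.trans hs.1.2))
  have hcomap : s₀.comap (algebraMap R W₀) = s := by
    rw [IsScalarTower.algebraMap_eq R R₁ W₀, ← Ideal.comap_comap]
    change (Ideal.comap (Ideal.Quotient.mk _) (s₁.map (Ideal.Quotient.mk _))).comap _ = _
    rw [Ideal.comap_map_of_surjective _ Ideal.Quotient.mk_surjective, ← RingHom.ker_eq_comap_bot,
      Ideal.mk_ker, sup_eq_left.mpr (Ideal.map_mono (hJI.trans hs.1.2))]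
    exact IsLocalization.comap_map_of_isPrime_disjoint (Submonoid.powers h₁) R₁ ‹_› hdisj
  obtain ⟨h', hh', hfree⟩ := exists_free_baseChange_away (P := P) s₀
  obtain ⟨h'', rfl⟩ := Ideal.Quotient.mk_surjective h'
  obtain ⟨a, ⟨_, n, rfl⟩, rfl⟩ := IsLocalization.exists_mk'_eq (Submonoid.powers h₁) h''
  have ha : a ∉ s := by
    intro h
    apply hh'
    refine Ideal.mem_map_of_mem _ ?_
    rw [IsLocalization.mk'_eq_mul_mk'_one]
    exact Ideal.mul_mem_right _ _ (Ideal.mem_map_of_mem _ h)
  refine ⟨h₁ * a, fun h => (‹s.IsPrime›.mem_or_mem h).elim hh₁ ha, J, hJfg, hJI, ?_⟩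
  intro W _ _ hu hJW
  rw [map_mul] at hu
  have hu1 : IsUnit (algebraMap R W h₁) := isUnit_of_mul_isUnit_left hu
  have hua : IsUnit (algebraMap R W a) := isUnit_of_mul_isUnit_right hu
  let f₁ : R₁ →+* W := IsLocalization.Away.lift h₁ hu1
  have hf₁ : f₁.comp (algebraMap R R₁) = algebraMap R W := IsLocalization.Away.lift_comp h₁ hu1
  let f₀ : W₀ →+* W := Ideal.Quotient.lift _ f₁ fun x hx => by
    have : (J.map (algebraMap R R₁)).map f₁ = ⊥ := by rw [Ideal.map_map, hf₁, hJW]
    exact (Submodule.mem_bot W).mp (this ▸ Ideal.mem_map_of_mem f₁ hx)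
  let d : Submonoid.powers h₁ := ⟨h₁ ^ n, pow_mem (Submonoid.mem_powers h₁) n⟩
  let h' : W₀ := Ideal.Quotient.mk _ (IsLocalization.mk' R₁ a d)
  have hu' : IsUnit (f₀ h') := by
    change IsUnit (f₁ (IsLocalization.mk' R₁ a d))
    refine isUnit_of_mul_isUnit_left (y := f₁ (algebraMap R R₁ (h₁ ^ n))) ?_
    rw [← map_mul, show IsLocalization.mk' R₁ a d * algebraMap R R₁ (h₁ ^ n) = algebraMap R R₁ a from
      IsLocalization.mk'_spec R₁ a d]
    rw [← RingHom.comp_apply, hf₁]
    exact hua
  letI : Algebra W₀ W := f₀.toAlgebra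
  have : IsScalarTower R W₀ W := .of_algebraMap_eq' (by
    change _ = f₀.comp _
    rw [IsScalarTower.algebraMap_eq R R₁ W₀, ← RingHom.comp_assoc]
    exact hf₁.symm)
  have := hfree W hu'
  have e : W ⊗[W₀] P ≃ₗ[W] W ⊗[R] B := TensorProduct.AlgebraTensorModule.cancelBaseChange R W₀ W W B
  exact ⟨Module.Finite.equiv e, Module.Free.of_equiv e⟩

/-- The main algebraic statement. -/
theorem exists_away_inPiImage {R B : Type u} [CommRing R] [CommRing B] [Algebra R B]
    [Module.Flat R B] [Algebra.QuasiFinite R B] [Algebra.FinitePresentation R B] (g : B)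
    (hg : g ≠ 0) :
    ∃ h : R, ∀ (R' B' : Type u) [CommRing R'] [CommRing B'] [Algebra R R'] [Algebra R' B']
      [Algebra B B'] [Algebra R B'] [IsScalarTower R R' B'] [IsScalarTower R B B']
      [IsLocalization.Away h R'] [IsLocalization.Away (algebraMap R B h) B'],
      algebraMap B B' g ≠ 0 ∧ InPiImage R' B' (algebraMap B B' g) := by
  let I : Ideal R := LinearMap.ker (LinearMap.toSpanSingleton R B g)
  have hI : I ≠ ⊤ := fun h => hg (by
    have : (1 : R) ∈ I := h ▸ Submodule.mem_top
    simpa [I] using this)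
  obtain ⟨s, hs⟩ := (Ideal.nonempty_minimalPrimes hI)
  obtain ⟨h, hh, J, hJfg, hJI, H⟩ := exists_away_free (B := B) I s hs
  refine ⟨h, fun R' B' _ _ _ _ _ _ _ _ _ _ => ?_⟩
  have hne : algebraMap B B' g ≠ 0 := by
    intro h0
    obtain ⟨⟨_, n, rfl⟩, hn⟩ := (IsLocalization.map_eq_zero_iff
      (Submonoid.powers (algebraMap R B h)) B' g).mp h0
    refine hh (hs.isPrime.mem_of_pow_mem n (hs.1.2 ?_))
    simpa [I, Algebra.smul_def] using hn
  have : IsLocalization (Algebra.algebraMapSubmonoid B (Submonoid.powers h)) B' := by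
    rw [Algebra.algebraMapSubmonoid, Submonoid.map_powers]; infer_instance
  have : Algebra.IsPushout R R' B B' := (Algebra.isPushout_of_isLocalization (Submonoid.powers h) R' B B').symm
  let J' := J.map (algebraMap R R')
  have hu : IsUnit (algebraMap R (R' ⧸ J') h) := by
    rw [IsScalarTower.algebraMap_apply R R' (R' ⧸ J')]
    exact (IsLocalization.Away.algebraMap_isUnit (S := R') h).map _
  have hJ' : J.map (algebraMap R (R' ⧸ J')) = ⊥ := by
    rw [IsScalarTower.algebraMap_eq R R' (R' ⧸ J'), ← Ideal.map_map]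
    exact Ideal.map_quotient_self _
  obtain ⟨_, _⟩ := H (R' ⧸ J') hu hJ'
  refine ⟨hne, inPiImage_of_finite_free (R := R) (B := B) J' (hJfg.map _) _ hne fun j hj => ?_⟩
  have hle : J' ≤ (LinearMap.ker (LinearMap.toSpanSingleton R' B' (algebraMap B B' g))) := by
    refine Ideal.map_le_iff_le_comap.mpr fun x hx => ?_
    have := congrArg (algebraMap B B') (show x • g = 0 from hJI hx)
    rw [Algebra.smul_def, map_mul, map_zero, ← IsScalarTower.algebraMap_apply R B B',
      IsScalarTower.algebraMap_apply R R' B'] at this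
    simpa [Algebra.smul_def] using this
  simpa [Algebra.smul_def] using hle hj

end GrothLib.LqfSection
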